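import Mathlib
import Groth.Agent.Lib.FlatOff.FourTerm
import Groth.Agent.Lib.DepthKer.Basic

/-!
# The core of the acyclicity lemma

Cokernels in an exact tail of a complex whose `j`-th term has depth `≥ j` have depth `≥ j`.
-/

set_option autoImplicit false
universe u

open Function IsLocalRing CategoryTheory Abelian

namespace GrothLib.BEExact

variable {R : Type u} [CommRing R] [IsNoetherianRing R] (J : Ideal R)

theorem idealDepth_eq_top_of_subsingleton (M : Type u) [AddCommGroup M] [Module R M] [Subsingleton M] :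
    LocCoh.idealDepth J M = ⊤ := by
  rw [LocCoh.idealDepth, if_pos (Subsingleton.elim _ _)]

theorem one_le_of_injective {N N' : Type u} [AddCommGroup N] [Module R N] [AddCommGroup N'] [Module R N']
    [Module.Finite R N] [Module.Finite R N'] (f : N →ₗ[R] N') (hf : Injective f)
    (h : 1 ≤ LocCoh.idealDepth J N') : 1 ≤ LocCoh.idealDepth J N := by
  have h' : ((1 : ℕ) : ℕ∞) ≤ LocCoh.idealDepth J N' := by simpa using h
  rw [GrothLib.Depth.le_idealDepth_iff_ext] at h'
  suffices ((1 : ℕ) : ℕ∞) ≤ LocCoh.idealDepth J N by simpa using this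
  rw [GrothLib.Depth.le_idealDepth_iff_ext]
  intro i hi
  obtain rfl : i = 0 := by omega
  refine subsingleton_of_forall_eq 0 fun e => ?_
  obtain ⟨φ, rfl⟩ := (Ext.mk₀_bijective _ _).surjective e
  have h0 : φ ≫ ModuleCat.ofHom f = 0 :=
    (Ext.mk₀_bijective _ _).injective (@Subsingleton.elim _ (h' 0 hi) _ _)
  haveI : Mono (ModuleCat.ofHom f) := (ModuleCat.mono_iff_injective _).2 hf
  rw [(cancel_mono (ModuleCat.ofHom f)).1 (h0.trans Limits.zero_comp.symm), Ext.mk₀_zero]

variable {M : ℕ → Type u} [∀ j, AddCommGroup (M j)] [∀ j, Module R (M j)] [∀ j, Module.Finite R (M j)]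
  (d : ∀ j, M (j + 1) →ₗ[R] M j)

/-- In a tail `0 → M e → ⋯ → M (i+1) → M i` which is exact with `depth M j ≥ j`, the cokernel of
`M (i+1) → M i` has depth `≥ i`. -/
theorem le_depth_coker (e : ℕ) (hinj : Injective (d (e - 1)))
    (hdepth : ∀ j, j ≤ e → (j : ℕ∞) ≤ LocCoh.idealDepth J (M j)) (i : ℕ) (hie : i < e)
    (hex : ∀ j, i ≤ j → j + 2 ≤ e → LinearMap.ker (d j) = LinearMap.range (d (j + 1))) :
    (i : ℕ∞) ≤ LocCoh.idealDepth J (M i ⧸ LinearMap.range (d i)) := by
  obtain ⟨k, rfl⟩ : ∃ k, e = i + 1 + k := ⟨e - (i + 1), by omega⟩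
  induction k generalizing i with
  | zero =>
    have hi : Injective (d i) := hinj
    exact FlatOff.le_idealDepth_right J (d i) (LinearMap.range (d i)).mkQ hi
      (Submodule.mkQ_surjective _) (LinearMap.exact_map_mkQ_range _) i (hdepth (i + 1) le_rfl)
      (hdepth i (by omega))
  | succ k ih =>
    have he : i + 1 + 1 + k - 1 = i + 1 + (k + 1) - 1 := by omega
    have h1 := ih (i + 1) (by rw [he]; exact hinj) (fun j hj => hdepth j (by omega)) (by omega)
      (fun j hj hj' => hex j (by omega) (by omega))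
    have hle : LinearMap.range (d (i + 1)) ≤ LinearMap.ker (d i) := (hex i le_rfl (by omega)).ge
    refine FlatOff.le_idealDepth_right J ((LinearMap.range (d (i + 1))).liftQ (d i) hle)
      (LinearMap.range (d i)).mkQ ?_ (Submodule.mkQ_surjective _) ?_ i h1 (hdepth i (by omega))
    · rw [← LinearMap.ker_eq_bot, Submodule.ker_liftQ_eq_bot _ _ _ (hex i le_rfl (by omega)).le]
    · rw [LinearMap.exact_iff, Submodule.ker_mkQ, Submodule.range_liftQ]

/-- The acyclicity step: an element of `ker (d i)` some power of each element of `J` carries into the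
range of `d (i+1)` lies in that range. -/
theorem mem_range_of_torsion (e : ℕ) (hinj : Injective (d (e - 1)))
    (hdepth : ∀ j, j ≤ e → (j : ℕ∞) ≤ LocCoh.idealDepth J (M j)) (i : ℕ) (hie : i + 2 ≤ e)
    (hex : ∀ j, i + 1 ≤ j → j + 2 ≤ e → LinearMap.ker (d j) = LinearMap.range (d (j + 1)))
    (x : M (i + 1)) (hx : ∀ a ∈ J, ∃ n : ℕ, a ^ n • x ∈ LinearMap.range (d (i + 1))) :
    x ∈ LinearMap.range (d (i + 1)) := by
  have h1 := le_depth_coker J d e hinj hdepth (i + 1) (by omega) hex
  have hTF := FlatOff.tf_of_idealDepth (le_trans (by exact_mod_cast Nat.le_add_left 1 i) h1)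
  rw [← Submodule.Quotient.mk_eq_zero]
  exact hTF _ fun a ha => (hx a ha).imp fun n hn => by
    rw [← Submodule.Quotient.mk_smul, Submodule.Quotient.mk_eq_zero]; exact hn

section Matrix

variable {n m : ℕ} (A : Matrix (Fin n) (Fin m) R)

omit [IsNoetherianRing R] in
theorem exists_smul_eq_zero_of_map {S : Type u} [CommRing S] [Algebra R S] (T : Submonoid R)
    [IsLocalization T S] (x : Fin n → R) (hx : (fun k => algebraMap R S (x k)) = 0) :
    ∃ s ∈ T, s • x = 0 := by
  classical
  have h : ∀ k, ∃ c : T, (c : R) * x k = 0 := fun k =>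
    (IsLocalization.map_eq_zero_iff T S _).1 (congrFun hx k)
  choose c hc using h
  refine ⟨∏ k, (c k : R), prod_mem fun k _ => (c k).2, funext fun k => ?_⟩
  rw [Pi.smul_apply, smul_eq_mul, Pi.zero_apply,
    ← Finset.prod_erase_mul _ _ (Finset.mem_univ k), mul_assoc, hc, mul_zero]

omit [IsNoetherianRing R] in
theorem exists_smul_mem_range_of_map {S : Type u} [CommRing S] [Algebra R S] (T : Submonoid R)
    [IsLocalization T S] (x : Fin n → R)
    (hx : (fun k => algebraMap R S (x k)) ∈ LinearMap.range (A.map (algebraMap R S)).mulVecLin) :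
    ∃ s ∈ T, s • x ∈ LinearMap.range A.mulVecLin := by
  obtain ⟨y, hy⟩ := hx
  obtain ⟨b, hb⟩ := IsLocalization.exist_integer_multiples_of_finite T y
  choose y' hy' using hb
  have h0 : (fun k => algebraMap R S (A.mulVec y' k - (b : R) * x k)) = 0 := funext fun k => by
    have h1 : algebraMap R S (A.mulVec y' k) = ((A.map (algebraMap R S)).mulVec (algebraMap R S ∘ y')) k :=
      RingHom.map_mulVec _ _ _ _
    have h2 : algebraMap R S ∘ y' = (b : R) • y := funext fun j => by
      rw [Function.comp_apply, hy' j]; rfl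
    rw [h2, Matrix.mulVec_smul] at h1
    rw [map_sub, h1, map_mul, Pi.smul_apply, Algebra.smul_def, Pi.zero_apply, sub_eq_zero]
    exact congrArg (algebraMap R S (b : R) * ·) (congrFun hy k)
  obtain ⟨c, hc, hc'⟩ := exists_smul_eq_zero_of_map T _ h0
  refine ⟨c * b, mul_mem hc b.2, c • y', funext fun k => ?_⟩
  have h3 := congrFun hc' k
  rw [Pi.smul_apply, smul_eq_mul, Pi.zero_apply, mul_sub, sub_eq_zero] at h3
  rw [map_smul, Pi.smul_apply, Pi.smul_apply, Matrix.mulVecLin_apply, smul_eq_mul, smul_eq_mul, h3,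
    mul_assoc]

omit [IsNoetherianRing R] in
theorem exists_smul_eq_zero_of_injective_map {S : Type u} [CommRing S] [Algebra R S] (T : Submonoid R)
    [IsLocalization T S] (h : LinearMap.ker (A.map (algebraMap R S)).mulVecLin = ⊥)
    (x : Fin m → R) (hx : A.mulVecLin x = 0) : ∃ s ∈ T, s • x = 0 := by
  refine exists_smul_eq_zero_of_map (S := S) T x (LinearMap.ker_eq_bot'.1 h _ (funext fun k => ?_))
  have h1 : algebraMap R S (A.mulVec x k) =
      ((A.map (algebraMap R S)).mulVec (algebraMap R S ∘ x)) k := RingHom.map_mulVec _ _ _ _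
  rw [Matrix.mulVecLin_apply] at hx
  rw [hx, Pi.zero_apply, map_zero] at h1
  exact h1.symm

end Matrix

omit [IsNoetherianRing R] in
/-- If an element is killed outside `p` for every prime `p` not containing `J`, then powers of `J` kill it. -/
theorem exists_pow_smul_mem {N : Type u} [AddCommGroup N] [Module R N] (P : Submodule R N) (x : N)
    (h : ∀ p : Ideal R, p.IsPrime → ¬ J ≤ p → ∃ s ∉ p, s • x ∈ P) (a : R) (ha : a ∈ J) :
    ∃ n : ℕ, a ^ n • x ∈ P := by
  have : a ∈ (P.colon {x}).radical := by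
    rw [Ideal.radical_eq_sInf, Submodule.mem_sInf]
    rintro q ⟨hle, hq⟩
    by_contra haq
    obtain ⟨s, hs, hsx⟩ := h q hq fun hJ => haq (hJ ha)
    exact hs (hle (Submodule.mem_colon_singleton.2 hsx))
  obtain ⟨n, hn⟩ := this
  exact ⟨n, Submodule.mem_colon_singleton.1 hn⟩

theorem le_idealDepth_free (k : ℕ) (rs : List R) (hlen : rs.length = k) (hmem : ∀ x ∈ rs, x ∈ J)
    (hreg : RingTheory.Sequence.IsWeaklyRegular R rs) (m : ℕ) :
    (k : ℕ∞) ≤ LocCoh.idealDepth J (Fin m → R) := by
  refine DepthKer.le_idealDepth_pi (E0 := R) J k ?_ m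
  by_cases hJ : J • (⊤ : Submodule R R) = ⊤
  · rw [LocCoh.idealDepth, if_pos hJ]; exact le_top
  · exact (GrothLib.Depth.le_idealDepth_iff_exists J hJ k).2 ⟨rs, hlen, hmem, hreg⟩

end GrothLib.BEExact
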