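import Mathlib
import Groth.Agent.Lib.McCoy19.Basic

/-!
# Consecutive matrices with unit minors of complementary sizes
-/

set_option autoImplicit false
universe u

open Matrix Function

namespace GrothLib.BEExact

/-- The expected rank of the matrix `R^(n (i+1)) → R^(n i)` in a resolution of length `e`. -/
def σ (e : ℕ) (n : ℕ → ℕ) (i : ℕ) : ℤ :=
  ∑ s ∈ Finset.range (e - i), (-1 : ℤ) ^ s * (n (i + 1 + s) : ℤ)

theorem σ_eq_sum_Icc (e : ℕ) (n : ℕ → ℕ) (i : ℕ) :
    σ e n i = ∑ t ∈ Finset.Icc (i + 1) e, (-1 : ℤ) ^ (t - (i + 1)) * (n t : ℤ) := by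
  rw [← Finset.Ico_add_one_right_eq_Icc, Finset.sum_Ico_eq_sum_range, Nat.add_sub_add_right]
  refine Finset.sum_congr rfl fun s _ => ?_
  rw [Nat.add_sub_cancel_left]

theorem σ_last {e : ℕ} (n : ℕ → ℕ) {i : ℕ} (h : i + 1 = e) : σ e n i = n e := by
  subst h
  simp [σ]

theorem σ_succ {e : ℕ} (n : ℕ → ℕ) {i : ℕ} (h : i + 2 ≤ e) :
    σ e n i + σ e n (i + 1) = n (i + 1) := by
  rw [σ, σ, show e - i = (e - (i + 1)) + 1 by omega, Finset.sum_range_succ']
  rw [add_comm, ← add_assoc, ← Finset.sum_add_distrib, Finset.sum_eq_zero fun s _ => ?_, zero_add]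
  · simp
  · rw [pow_succ, show i + 1 + 1 + s = i + 1 + (s + 1) by omega]; ring

variable {R : Type u} [CommRing R] {n m p : ℕ}

theorem minorIdeal_map {S : Type u} [CommRing S] (φ : R →+* S) (A : Matrix (Fin n) (Fin m) R) (r : ℕ) :
    CAlgX.minorIdeal (A.map φ) r = (CAlgX.minorIdeal A r).map φ := by
  rw [CAlgX.minorIdeal, CAlgX.minorIdeal, Ideal.map_span, ← Set.range_comp]
  congr 1
  refine congrArg Set.range (funext fun fg => ?_)
  simp only [Function.comp_apply, RingHom.map_det, RingHom.mapMatrix_apply, Matrix.submatrix_map]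

theorem minorIdeal_submatrix_le (A : Matrix (Fin n) (Fin m) R) {a : ℕ} (c : Fin a → Fin m) (r : ℕ) :
    CAlgX.minorIdeal (A.submatrix id c) r ≤ CAlgX.minorIdeal A r := by
  refine Ideal.span_le.2 ?_
  rintro _ ⟨⟨f, g⟩, rfl⟩
  exact Ideal.subset_span ⟨(f, c ∘ g), by simp⟩

theorem exists_isUnit_minor [IsLocalRing R] {A : Matrix (Fin n) (Fin m) R} {r : ℕ}
    (h : CAlgX.minorIdeal A r = ⊤) :
    ∃ (f : Fin r → Fin n) (g : Fin r → Fin m), IsUnit (A.submatrix f g).det := by
  by_contra hc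
  push Not at hc
  refine (IsLocalRing.maximalIdeal.isMaximal R).ne_top (top_le_iff.1 (h.ge.trans (Ideal.span_le.2 ?_)))
  rintro _ ⟨⟨f, g⟩, rfl⟩
  exact hc f g

theorem injective_of_isUnit_minor [Nontrivial R] {A : Matrix (Fin n) (Fin m) R} {r : ℕ}
    {f : Fin r → Fin n} {g : Fin r → Fin m} (h : IsUnit (A.submatrix f g).det) :
    Injective f ∧ Injective g := by
  refine ⟨fun i j hij => ?_, fun i j hij => ?_⟩ <;> by_contra hne <;> refine not_isUnit_zero (M₀ := R) ?_
  · rwa [Matrix.det_zero_of_row_eq hne (funext fun k => by simp [hij])] at h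
  · rwa [Matrix.det_zero_of_column_eq hne (fun k => by simp [hij])] at h

theorem eq_zero_of_isUnit_minor {A : Matrix (Fin n) (Fin m) R} {f : Fin m → Fin n} {g : Fin m → Fin m}
    (h : IsUnit (A.submatrix f g).det) {x : Fin m → R} (hx : A.submatrix f id *ᵥ x = 0) : x = 0 := by
  rw [GrothLib.McCoy19.submatrix_eq_mul A f g, Matrix.det_mul] at h
  have h' := (Matrix.isUnit_iff_isUnit_det _).2 (isUnit_of_mul_isUnit_left h)
  exact Matrix.mulVec_injective_of_isUnit h' (hx.trans (Matrix.mulVec_zero _).symm)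

theorem exists_rightInverse {A : Matrix (Fin n) (Fin m) R} {a : ℕ} {f : Fin a → Fin n}
    {g : Fin a → Fin m} (h : IsUnit (A.submatrix f g).det) :
    ∃ S : Matrix (Fin m) (Fin a) R, A.submatrix f id * S = 1 :=
  ⟨(1 : Matrix (Fin m) (Fin m) R).submatrix id g * (A.submatrix f g)⁻¹, by
    rw [← Matrix.mul_assoc, ← GrothLib.McCoy19.submatrix_eq_mul A f g, Matrix.mul_nonsing_inv _ h]⟩

theorem exists_leftInverse' {A : Matrix (Fin n) (Fin m) R} {a : ℕ} {f : Fin a → Fin n}
    {g : Fin a → Fin m} (h : IsUnit (A.submatrix f g).det) :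
    ∃ L : Matrix (Fin a) (Fin n) R, L * A.submatrix id g = 1 :=
  ⟨(A.submatrix f g)⁻¹ * (1 : Matrix (Fin n) (Fin n) R).submatrix f id, by
    rw [Matrix.mul_assoc, show (1 : Matrix (Fin n) (Fin n) R).submatrix f id * A.submatrix id g
      = A.submatrix f g from by ext i j; simp [Matrix.mul_apply, Matrix.one_apply],
      Matrix.nonsing_inv_mul _ h]⟩

/-- If `A * B = 0` and `A`, `B` have unit minors of complementary sizes, the vectors killed by the
corresponding rows of `A` are in the range of `B`. -/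
theorem mem_range_of_rows (A : Matrix (Fin n) (Fin m) R) (B : Matrix (Fin m) (Fin p) R) (hAB : A * B = 0)
    {a b : ℕ} (hab : a + b = m) {f : Fin a → Fin n} {g : Fin a → Fin m} (hA : IsUnit (A.submatrix f g).det)
    {f' : Fin b → Fin m} {g' : Fin b → Fin p} (hB : IsUnit (B.submatrix f' g').det)
    {x : Fin m → R} (hx : A.submatrix f id *ᵥ x = 0) : x ∈ LinearMap.range B.mulVecLin := by
  obtain ⟨S, hS⟩ := exists_rightInverse hA
  obtain ⟨L, hL⟩ := exists_leftInverse' hB
  set Q := A.submatrix f id with hQ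
  set P := B.submatrix id g' with hP
  have hQP : Q * P = 0 := by
    ext i j
    exact congrFun (congrFun hAB (f i)) (g' j)
  let T : (Fin m → R) →ₗ[R] (Fin b → R) × (Fin a → R) :=
    LinearMap.prod ((L * (1 - S * Q)).mulVecLin) Q.mulVecLin
  have hT : Surjective T := fun ⟨v, w⟩ => by
    refine ⟨P *ᵥ v + S *ᵥ w, Prod.ext ?_ ?_⟩
    · show (L * (1 - S * Q)) *ᵥ (P *ᵥ v + S *ᵥ w) = v
      rw [Matrix.mulVec_add, Matrix.mulVec_mulVec, Matrix.mulVec_mulVec, Matrix.mul_assoc, Matrix.sub_mul,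
        Matrix.one_mul, Matrix.mul_assoc, hQP, Matrix.mul_zero, sub_zero, hL, Matrix.mul_assoc,
        Matrix.sub_mul, Matrix.one_mul, Matrix.mul_assoc, hS, Matrix.mul_one, sub_self, Matrix.mul_zero,
        Matrix.one_mulVec, Matrix.zero_mulVec, add_zero]
    · show Q *ᵥ (P *ᵥ v + S *ᵥ w) = w
      rw [Matrix.mulVec_add, Matrix.mulVec_mulVec, Matrix.mulVec_mulVec, hQP, hS, Matrix.zero_mulVec,
        Matrix.one_mulVec, zero_add]
  let e : ((Fin b → R) × (Fin a → R)) ≃ₗ[R] (Fin m → R) :=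
    (LinearEquiv.sumArrowLequivProdArrow (Fin b) (Fin a) R R).symm.trans
      (LinearEquiv.funCongrLeft R R ((finCongr (show m = b + a by omega)).trans finSumFinEquiv.symm))
  have hinj : Injective T := Injective.of_comp (f := e)
    (OrzechProperty.injective_of_surjective_endomorphism (e.toLinearMap ∘ₗ T) (e.surjective.comp hT))
  refine ⟨(1 : Matrix (Fin p) (Fin p) R).submatrix id g' *ᵥ (L *ᵥ x), ?_⟩
  rw [Matrix.mulVecLin_apply, Matrix.mulVec_mulVec,
    show B * (1 : Matrix (Fin p) (Fin p) R).submatrix id g' = P from by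
      ext i j; simp [hP, Matrix.mul_apply, Matrix.one_apply]]
  refine hinj (Prod.ext ?_ ?_)
  · show (L * (1 - S * Q)) *ᵥ (P *ᵥ (L *ᵥ x)) = (L * (1 - S * Q)) *ᵥ x
    rw [Matrix.mulVec_mulVec, Matrix.mul_assoc, Matrix.sub_mul, Matrix.one_mul, Matrix.mul_assoc, hQP,
      Matrix.mul_zero, sub_zero, hL, Matrix.one_mulVec, Matrix.mul_sub, Matrix.mul_one, Matrix.sub_mulVec,
      ← Matrix.mul_assoc, ← Matrix.mulVec_mulVec x (L * S) Q, hx, Matrix.mulVec_zero, sub_zero]
  · show Q *ᵥ (P *ᵥ (L *ᵥ x)) = Q *ᵥ x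
    rw [Matrix.mulVec_mulVec, hQP, Matrix.zero_mulVec, hx]

theorem ker_eq_range_of_minors (A : Matrix (Fin n) (Fin m) R) (B : Matrix (Fin m) (Fin p) R)
    (hAB : A * B = 0) {a b : ℕ} (hab : a + b = m) {f : Fin a → Fin n} {g : Fin a → Fin m}
    (hA : IsUnit (A.submatrix f g).det) {f' : Fin b → Fin m} {g' : Fin b → Fin p}
    (hB : IsUnit (B.submatrix f' g').det) :
    LinearMap.ker A.mulVecLin = LinearMap.range B.mulVecLin := by
  refine le_antisymm (fun x hx => mem_range_of_rows A B hAB hab hA hB (funext fun i => ?_)) ?_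
  · exact congrFun (LinearMap.mem_ker.1 hx) (f i)
  · rintro _ ⟨y, rfl⟩
    rw [LinearMap.mem_ker, Matrix.mulVecLin_apply, Matrix.mulVecLin_apply, Matrix.mulVec_mulVec, hAB,
      Matrix.zero_mulVec]

/-- A matrix with a unit minor whose rows determine the matrix has a direct summand as range. -/
theorem exists_section (B : Matrix (Fin n) (Fin m) R) {a : ℕ} {f : Fin a → Fin n} {g : Fin a → Fin m}
    (hB : IsUnit (B.submatrix f g).det) (hker : ∀ x, B.submatrix f id *ᵥ x = 0 → B *ᵥ x = 0) :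
    ∃ s : ((Fin n → R) ⧸ LinearMap.range B.mulVecLin) →ₗ[R] (Fin n → R),
      (LinearMap.range B.mulVecLin).mkQ ∘ₗ s = LinearMap.id := by
  obtain ⟨S, hS⟩ := exists_rightInverse hB
  let w : (Fin n → R) →ₗ[R] (Fin n → R) :=
    LinearMap.id - B.mulVecLin ∘ₗ S.mulVecLin ∘ₗ LinearMap.funLeft R R f
  have hw : LinearMap.range B.mulVecLin ≤ LinearMap.ker w := by
    rintro _ ⟨y, rfl⟩
    show B *ᵥ y - B *ᵥ (S *ᵥ ((B *ᵥ y) ∘ f)) = 0
    have h1 : (B *ᵥ y) ∘ f = B.submatrix f id *ᵥ y := rfl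
    rw [← Matrix.mulVec_sub, h1]
    refine hker _ ?_
    rw [Matrix.mulVec_sub, Matrix.mulVec_mulVec, hS, Matrix.one_mulVec, sub_self]
  refine ⟨Submodule.liftQ _ w hw, Submodule.linearMap_qext _ (LinearMap.ext fun y => ?_)⟩
  show Submodule.Quotient.mk (y - B *ᵥ (S *ᵥ (y ∘ f))) = Submodule.Quotient.mk y
  rw [Submodule.Quotient.eq, sub_right_comm, sub_self, zero_sub]
  exact neg_mem (LinearMap.mem_range_self _ _)

theorem det_mul_eq_zero_of_lt {s a : ℕ} (h : a < s) (X : Matrix (Fin s) (Fin a) R)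
    (Y : Matrix (Fin a) (Fin s) R) : (X * Y).det = 0 := by
  let X' : Matrix (Fin s) (Fin s) R := Matrix.of fun i k => if hk : (k : ℕ) < a then X i ⟨k, hk⟩ else 0
  let Y' : Matrix (Fin s) (Fin s) R := Matrix.of fun k j => if hk : (k : ℕ) < a then Y ⟨k, hk⟩ j else 0
  have hmul : X * Y = X' * Y' := by
    ext i j
    rw [Matrix.mul_apply, Matrix.mul_apply]
    refine Fintype.sum_of_injective (Fin.castLE h.le) (Fin.castLE_injective _) _ _ ?_ fun k => ?_
    · intro k hk
      rw [show X' i k = 0 from dif_neg fun hka => hk ⟨⟨k, hka⟩, rfl⟩, zero_mul]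
    · simp only [X', Y', Matrix.of_apply, Fin.val_castLE, Fin.is_lt, dite_true, Fin.eta]
  rw [hmul, Matrix.det_mul, Matrix.det_eq_zero_of_column_eq_zero ⟨a, h⟩ (fun i => dif_neg (lt_irrefl a)),
    zero_mul]

/-- The step in the computation of ranks: if `ker A = range B` and some `b` rows of `B` determine it,
with a unit `b`-minor in them, then complementary columns of `A` are independent and generate. -/
theorem exists_columns [Nontrivial R] (A : Matrix (Fin n) (Fin m) R) (B : Matrix (Fin m) (Fin p) R)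
    (hex : LinearMap.ker A.mulVecLin = LinearMap.range B.mulVecLin) {b : ℕ} {f' : Fin b → Fin m}
    {g' : Fin b → Fin p} (hB : IsUnit (B.submatrix f' g').det)
    (hker : ∀ x, B.submatrix f' id *ᵥ x = 0 → B *ᵥ x = 0) :
    ∃ (a : ℕ) (c : Fin a → Fin m), a + b = m ∧ Injective (A.submatrix id c).mulVecLin ∧
      ∀ s, a < s → CAlgX.minorIdeal A s = ⊥ := by
  classical
  obtain ⟨hf', -⟩ := injective_of_isUnit_minor hB
  let t := (Finset.univ.image f')ᶜ
  have ht : t.card = m - b := by
    rw [Finset.card_compl, Finset.card_image_of_injective _ hf', Finset.card_univ, Fintype.card_fin,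
      Fintype.card_fin]
  let c := t.orderEmbOfFin ht
  have hbm : b ≤ m := by simpa using Fintype.card_le_of_injective f' hf'
  have hc : ∀ k i, c k ≠ f' i := fun k i h => by
    have := Finset.orderEmbOfFin_mem t ht k
    rw [Finset.mem_compl] at this
    exact this (Finset.mem_image.2 ⟨i, Finset.mem_univ _, h.symm⟩)
  have hsurj : ∀ j, j ∉ Set.range c → ∃ i, f' i = j := fun j hj => by
    rw [Finset.range_orderEmbOfFin, Finset.mem_coe, Finset.mem_compl, not_not] at hj
    simpa using hj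
  have hAB : A * B = 0 := by
    refine Matrix.ext_of_mulVec_single fun j => ?_
    rw [← Matrix.mulVec_mulVec, Matrix.zero_mulVec]
    exact LinearMap.mem_ker.1 (hex.ge ⟨_, rfl⟩)
  refine ⟨m - b, c, by omega, ?_, fun s hs => ?_⟩
  · rw [← LinearMap.ker_eq_bot, LinearMap.ker_eq_bot']
    intro v hv
    let z : Fin m → R := (1 : Matrix (Fin m) (Fin m) R).submatrix id c *ᵥ v
    have hz : z ∈ LinearMap.ker A.mulVecLin := by
      rw [LinearMap.mem_ker, Matrix.mulVecLin_apply, Matrix.mulVec_mulVec,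
        show A * (1 : Matrix (Fin m) (Fin m) R).submatrix id c = A.submatrix id c from by
          ext i j; simp [Matrix.mul_apply, Matrix.one_apply]]
      exact hv
    obtain ⟨y, hy⟩ := hex.le hz
    rw [Matrix.mulVecLin_apply] at hy
    have h1 : B.submatrix f' id *ᵥ y = 0 := funext fun i => by
      show (B *ᵥ y) (f' i) = 0
      rw [hy]
      simp only [z, Matrix.mulVec, dotProduct, Matrix.submatrix_apply, id_eq, Matrix.one_apply]
      exact Finset.sum_eq_zero fun k _ => by rw [if_neg (hc k i).symm, zero_mul]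
    rw [hker y h1] at hy
    funext k
    have h2 := congrFun hy (c k)
    simpa [z, Matrix.mulVec, dotProduct, Matrix.one_apply, c.injective.eq_iff] using h2.symm
  · obtain ⟨L, hL⟩ := exists_leftInverse' hB
    let Li := (B.submatrix f' g')⁻¹ * (1 : Matrix (Fin m) (Fin m) R).submatrix f' id
    let W : Matrix (Fin m) (Fin m) R := 1 - B.submatrix id g' * Li
    have hW : ∀ i j, W (f' i) j = 0 := by
      intro i j
      have h1 : (B.submatrix id g' * Li) (f' i) j = (B.submatrix f' g' * Li) i j := rfl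
      rw [show W (f' i) j = (1 : Matrix (Fin m) (Fin m) R) (f' i) j - (B.submatrix id g' * Li) (f' i) j
        from rfl, h1]
      simp only [Li]
      rw [← Matrix.mul_assoc, Matrix.mul_nonsing_inv _ hB, Matrix.one_mul, Matrix.submatrix_apply, id_eq,
        sub_self]
    have hA : A = A.submatrix id c * W.submatrix c id := by
      have h1 : A * W = A := by
        rw [Matrix.mul_sub, Matrix.mul_one, ← Matrix.mul_assoc,
          show A * B.submatrix id g' = 0 from by ext i j; exact congrFun (congrFun hAB i) (g' j),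
          Matrix.zero_mul, sub_zero]
      conv_lhs => rw [← h1]
      ext i j
      rw [Matrix.mul_apply, Matrix.mul_apply]
      symm
      refine Fintype.sum_of_injective c c.injective _ _ (fun k hk => ?_) fun k => rfl
      obtain ⟨i', rfl⟩ := hsurj k hk
      rw [hW, mul_zero]
    refine Ideal.span_eq_bot.2 ?_
    rintro _ ⟨⟨f, g⟩, rfl⟩
    have h2 : A.submatrix f g = A.submatrix f c * W.submatrix c g := by
      ext i j
      exact congrFun (congrFun hA (f i)) (g j)
    dsimp only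
    rw [h2]
    exact det_mul_eq_zero_of_lt hs _ _

end GrothLib.BEExact
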