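import Mathlib
import Groth.Agent.Lib.BEExact.Basic
import Groth.Agent.Lib.BEExact.Minors

/-!
# The criterion of Buchsbaum and Eisenbud: sufficiency
-/

set_option autoImplicit false
universe u

open Matrix Function IsLocalRing CategoryTheory Abelian

namespace GrothLib.BEExact

variable {R : Type u} [CommRing R]

/-- Exactness of a complex of matrices at the places `1, …, e`. -/
def IsExact (e : ℕ) (n : ℕ → ℕ) (A : (i : ℕ) → Matrix (Fin (n i)) (Fin (n (i + 1))) R) : Prop :=
  LinearMap.ker (A (e - 1)).mulVecLin = ⊥ ∧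
    ∀ i, i + 2 ≤ e → LinearMap.ker (A i).mulVecLin = LinearMap.range (A (i + 1)).mulVecLin

section Loc

variable {n m p : ℕ} (A : Matrix (Fin n) (Fin m) R) {S : Type u} [CommRing S] [Algebra R S]
  (T : Submonoid R) [IsLocalization T S]

include T in
theorem exists_lift_ker (y : Fin m → S) (hy : (A.map (algebraMap R S)) *ᵥ y = 0) :
    ∃ (u : S) (y' : Fin m → R), IsUnit u ∧ A *ᵥ y' = 0 ∧ u • y = algebraMap R S ∘ y' := by
  obtain ⟨b, hb⟩ := IsLocalization.exist_integer_multiples_of_finite T y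
  choose y' hy' using hb
  have h2 : algebraMap R S ∘ y' = algebraMap R S (b : R) • y := funext fun j => by
    rw [Function.comp_apply, hy' j, Algebra.smul_def]; rfl
  have h0 : (fun k => algebraMap R S ((A *ᵥ y') k)) = 0 := funext fun k => by
    rw [RingHom.map_mulVec, h2, Matrix.mulVec_smul, hy, smul_zero]
  obtain ⟨c, hc, hc'⟩ := exists_smul_eq_zero_of_map T _ h0
  refine ⟨algebraMap R S (c * b), c • y', IsLocalization.map_units S (⟨c, hc⟩ * b : T),
    by rw [Matrix.mulVec_smul, hc'], funext fun j => ?_⟩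
  rw [Function.comp_apply, Pi.smul_apply, Pi.smul_apply, smul_eq_mul, smul_eq_mul, map_mul, map_mul,
    show algebraMap R S (y' j) = algebraMap R S (b : R) * y j from congrFun h2 j, mul_assoc]

include T in
theorem ker_map_eq_bot (h : LinearMap.ker A.mulVecLin = ⊥) :
    LinearMap.ker (A.map (algebraMap R S)).mulVecLin = ⊥ := by
  refine LinearMap.ker_eq_bot'.2 fun y hy => ?_
  obtain ⟨u, y', hu, h1, h2⟩ := exists_lift_ker A T y hy
  have : y' = 0 := LinearMap.ker_eq_bot'.1 h y' h1
  subst this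
  rw [← hu.smul_left_cancel, h2, smul_zero]
  funext j; simp

include T in
theorem ker_map_eq_range_map (B : Matrix (Fin m) (Fin p) R)
    (h : LinearMap.ker A.mulVecLin = LinearMap.range B.mulVecLin) :
    LinearMap.ker (A.map (algebraMap R S)).mulVecLin =
      LinearMap.range (B.map (algebraMap R S)).mulVecLin := by
  refine le_antisymm (fun y hy => ?_) ?_
  · obtain ⟨u, y', hu, h1, h2⟩ := exists_lift_ker A T y (LinearMap.mem_ker.1 hy)
    obtain ⟨z, hz⟩ := h.le (LinearMap.mem_ker.2 h1 : y' ∈ LinearMap.ker A.mulVecLin)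
    refine (Submodule.smul_mem_iff_of_isUnit _ hu).1 ⟨algebraMap R S ∘ z, funext fun j => ?_⟩
    rw [h2, Function.comp_apply, ← hz, Matrix.mulVecLin_apply, Matrix.mulVecLin_apply, RingHom.map_mulVec]
  · rintro _ ⟨y, rfl⟩
    have hAB : A * B = 0 := Matrix.ext_of_mulVec_single fun j => by
      rw [← Matrix.mulVec_mulVec, Matrix.zero_mulVec]
      exact LinearMap.mem_ker.1 (h.ge ⟨_, rfl⟩)
    rw [LinearMap.mem_ker, Matrix.mulVecLin_apply, Matrix.mulVecLin_apply, Matrix.mulVec_mulVec,
      ← Matrix.map_mul, hAB, Matrix.map_zero _ (map_zero _), Matrix.zero_mulVec]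

end Loc

theorem le_idealDepth_of_retract [IsNoetherianRing R] (J : Ideal R) (k : ℕ) {C M : Type u}
    [AddCommGroup C] [Module R C] [Module.Finite R C] [AddCommGroup M] [Module R M] [Module.Finite R M]
    (s : C →ₗ[R] M) (π : M →ₗ[R] C) (h : π ∘ₗ s = LinearMap.id)
    (hM : (k : ℕ∞) ≤ LocCoh.idealDepth J M) : (k : ℕ∞) ≤ LocCoh.idealDepth J C := by
  rw [GrothLib.Depth.le_idealDepth_iff_ext] at hM ⊢
  intro i hi
  refine subsingleton_of_forall_eq 0 fun x => ?_
  have hid : ModuleCat.ofHom s ≫ ModuleCat.ofHom π = 𝟙 (ModuleCat.of R C) :=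
    ModuleCat.hom_ext h
  have h1 : (x.comp (Ext.mk₀ (ModuleCat.ofHom s)) (add_zero i)).comp (Ext.mk₀ (ModuleCat.ofHom π)) (add_zero i)
      = x := by
    rw [Ext.comp_assoc_of_second_deg_zero, Ext.mk₀_comp_mk₀, hid, Ext.comp_mk₀_id]
  rw [← h1, @Subsingleton.elim _ (hM i hi) (x.comp _ _) 0, Ext.zero_comp]

section Local

variable [IsLocalRing R] [IsNoetherianRing R] (e : ℕ) (n : ℕ → ℕ)
  (A : (i : ℕ) → Matrix (Fin (n i)) (Fin (n (i + 1))) R) (r : ℕ → ℕ)
  (hA : ∀ i, i + 2 ≤ e → A i * A (i + 1) = 0) (hr : ∀ i, i < e → (r i : ℤ) = σ e n i)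

include hA hr in
omit [IsNoetherianRing R] in
theorem rows_determine (i : ℕ) (hi : i < e)
    (hu : ∀ j, i ≤ j → j < e → CAlgX.minorIdeal (A j) (r j) = ⊤) (f : Fin (r i) → Fin (n i))
    (g : Fin (r i) → Fin (n (i + 1))) (hfg : IsUnit ((A i).submatrix f g).det) (x : Fin (n (i + 1)) → R)
    (hx : (A i).submatrix f id *ᵥ x = 0) : A i *ᵥ x = 0 := by
  by_cases h2 : i + 2 ≤ e
  · obtain ⟨f', g', hB⟩ := exists_isUnit_minor (hu (i + 1) (by omega) (by omega))
    have hab : r i + r (i + 1) = n (i + 1) := by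
      have := σ_succ n h2
      rw [← hr i hi, ← hr (i + 1) (by omega)] at this
      exact_mod_cast this
    obtain ⟨y, rfl⟩ := mem_range_of_rows (A i) (A (i + 1)) (hA i h2) hab hfg hB hx
    rw [Matrix.mulVecLin_apply, Matrix.mulVec_mulVec, hA i h2, Matrix.zero_mulVec]
  · have hm : r i = n (i + 1) := by
      have := σ_last n (show i + 1 = e by omega)
      rw [← hr i hi] at this
      rw [show i + 1 = e by omega]
      exact_mod_cast this
    generalize r i = a at f g hm hfg hx
    subst hm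
    rw [eq_zero_of_isUnit_minor hfg hx, Matrix.mulVec_zero]

include hA hr in
/-- In an exact tail, `depth (coker A i) ≥ min(i, depth R)`. -/
theorem le_depth_coker_min (hinj : LinearMap.ker (A (e - 1)).mulVecLin = ⊥)
    (hu : ∀ j, j < e → LocCoh.depth R R ≤ j → CAlgX.minorIdeal (A j) (r j) = ⊤)
    (i : ℕ) (hi : i < e)
    (hex : ∀ j, i ≤ j → j + 2 ≤ e → LinearMap.ker (A j).mulVecLin = LinearMap.range (A (j + 1)).mulVecLin)
    (k : ℕ) (hk : k ≤ i) (hk' : (k : ℕ∞) ≤ LocCoh.depth R R) :
    (k : ℕ∞) ≤ LocCoh.depth R ((Fin (n i) → R) ⧸ LinearMap.range (A i).mulVecLin) := by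
  obtain ⟨l, hl⟩ : ∃ l, e = i + 1 + l := ⟨e - (i + 1), by omega⟩
  induction l using Nat.strong_induction_on generalizing i k with
  | _ l ih =>
    by_cases ht : LocCoh.depth R R ≤ i
    · obtain ⟨f, g, hfg⟩ := exists_isUnit_minor (hu i hi ht)
      obtain ⟨s, hs⟩ := exists_section (A i) hfg fun x hx => rows_determine e n A r hA hr i hi
        (fun j hj hj' => hu j hj' (ht.trans (by exact_mod_cast hj))) f g hfg x hx
      exact le_idealDepth_of_retract _ k s _ hs (DepthKer.le_idealDepth_pi (E0 := R) _ k hk' (n i))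
    · have ht' : ((i + 1 : ℕ) : ℕ∞) ≤ LocCoh.depth R R := by
        rw [not_le] at ht
        exact_mod_cast Order.add_one_le_of_lt ht
      have hfree : ∀ j, ((i + 1 : ℕ) : ℕ∞) ≤ LocCoh.idealDepth (maximalIdeal R) (Fin j → R) := fun j =>
        DepthKer.le_idealDepth_pi (E0 := R) _ (i + 1) ht' j
      have hMi : (i : ℕ∞) ≤ LocCoh.idealDepth (maximalIdeal R) (Fin (n i) → R) :=
        le_trans (by exact_mod_cast Nat.le_succ i) (hfree (n i))
      refine le_trans (show (k : ℕ∞) ≤ (i : ℕ∞) by exact_mod_cast hk) ?_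
      by_cases h2 : i + 2 ≤ e
      · have h1 := ih (e - (i + 2)) (by omega) (i + 1) (by omega) (fun j hj hj' => hex j (by omega) hj')
          (i + 1) le_rfl ht' (by omega)
        refine FlatOff.le_idealDepth_right _
          ((LinearMap.range (A (i + 1)).mulVecLin).liftQ (A i).mulVecLin (hex i le_rfl h2).ge)
          (LinearMap.range (A i).mulVecLin).mkQ ?_ (Submodule.mkQ_surjective _) ?_ i h1 hMi
        · rw [← LinearMap.ker_eq_bot, Submodule.ker_liftQ_eq_bot _ _ _ (hex i le_rfl h2).le]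
        · rw [LinearMap.exact_iff, Submodule.ker_mkQ, Submodule.range_liftQ]
      · obtain rfl : i = e - 1 := by omega
        exact FlatOff.le_idealDepth_right _ (A (e - 1)).mulVecLin (LinearMap.range _).mkQ
          (LinearMap.ker_eq_bot.1 hinj) (Submodule.mkQ_surjective _) (LinearMap.exact_map_mkQ_range _)
          (e - 1) (hfree _) hMi

end Local

variable [IsNoetherianRing R] (e : ℕ) (n : ℕ → ℕ)
  (A : (i : ℕ) → Matrix (Fin (n i)) (Fin (n (i + 1))) R)

omit [IsNoetherianRing R] in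
theorem annihilator_eq_bot_of_regular {I : Ideal R} {j : ℕ} (hj : 1 ≤ j)
    (h : I = ⊤ ∨ ∃ rs : List R, rs.length = j ∧ (∀ x ∈ rs, x ∈ I) ∧ RingTheory.Sequence.IsRegular R rs) :
    I.annihilator = ⊥ := by
  rw [eq_bot_iff]
  intro a ha
  rw [Submodule.mem_annihilator] at ha
  rcases h with rfl | ⟨rs, hlen, hmem, hreg⟩
  · simpa using ha 1 trivial
  · rcases rs with - | ⟨x, rs⟩
    · simp at hlen; omega
    · have h1 := ((RingTheory.Sequence.isWeaklyRegular_cons_iff R x rs).1 hreg.toIsWeaklyRegular).1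
      refine (Submodule.mem_bot R).2 (h1 ?_)
      show x • a = x • 0
      rw [smul_zero, smul_eq_mul, mul_comm]
      exact ha x (hmem x List.mem_cons_self)

theorem isExact_of_ranks (he : 1 ≤ e) (r : ℕ → ℕ) (hA : ∀ i, i + 2 ≤ e → A i * A (i + 1) = 0)
    (hr : ∀ i, i < e → (r i : ℤ) = σ e n i)
    (hdet : ∀ i, i < e → CAlgX.minorIdeal (A i) (r i) = ⊤ ∨
      ∃ rs : List R, rs.length = i + 1 ∧ (∀ x ∈ rs, x ∈ CAlgX.minorIdeal (A i) (r i)) ∧
        RingTheory.Sequence.IsRegular R rs) :
    IsExact e n A := by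
  obtain ⟨d, rfl⟩ : ∃ d, e = d + 1 := ⟨e - 1, by omega⟩
  have hinj : LinearMap.ker (A (d + 1 - 1)).mulVecLin = ⊥ := by
    show LinearMap.ker (A d).mulVecLin = ⊥
    refine LinearMap.ker_eq_bot.2 (GrothLib.McCoy19.injective_of_annihilator_eq_bot _ ?_)
    have h := annihilator_eq_bot_of_regular (Nat.le_add_left 1 d) (hdet d (by omega))
    have hm : r d = n (d + 1) := by
      have := σ_last n (rfl : d + 1 = d + 1)
      rw [← hr d (by omega)] at this
      exact_mod_cast this
    rwa [hm] at h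
  refine ⟨hinj, fun i hi => ?_⟩
  obtain ⟨k, hk⟩ : ∃ k, d + 1 = i + 2 + k := ⟨d + 1 - (i + 2), by omega⟩
  induction k using Nat.strong_induction_on generalizing i with
  | _ k ih =>
    refine le_antisymm (fun x hx => ?_) ?_
    swap
    · rintro _ ⟨y, rfl⟩
      rw [LinearMap.mem_ker, Matrix.mulVecLin_apply, Matrix.mulVecLin_apply, Matrix.mulVec_mulVec, hA i hi,
        Matrix.zero_mulVec]
    by_contra hxr
    let P := LinearMap.range (A (i + 1)).mulVecLin
    let z : (Fin (n (i + 1)) → R) ⧸ P := Submodule.Quotient.mk x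
    have hz : z ≠ 0 := fun h => hxr ((Submodule.Quotient.mk_eq_zero _).1 h)
    haveI : Nontrivial (Submodule.span R {z}) :=
      ⟨⟨⟨z, Submodule.mem_span_singleton_self z⟩, 0, fun h => hz (congrArg Subtype.val h)⟩⟩
    obtain ⟨q, hq⟩ := associatedPrimes.nonempty R (Submodule.span R {z})
    obtain ⟨hqp, ⟨w, hw⟩, hqw⟩ := ((isAssociatedPrime_iff_exists_injective_linearMap q (Submodule.span R {z})).1 hq).imp id
      fun ⟨φ, hφ⟩ => (⟨φ 1, fun a => by
        rw [← φ.map_smul, Algebra.smul_def, Ideal.Quotient.algebraMap_eq, mul_one]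
        exact ⟨fun h => Ideal.Quotient.eq_zero_iff_mem.1 (hφ (h.trans φ.map_zero.symm)),
          fun h => by rw [Ideal.Quotient.eq_zero_iff_mem.2 h, map_zero]⟩⟩ :
        ∃ w : Submodule.span R {z}, ∀ a : R, a • w = 0 ↔ a ∈ q)
    haveI := hqp
    obtain ⟨c, rfl⟩ := Submodule.mem_span_singleton.1 hw
    have hcol : ∀ a : R, a • (c • x) ∈ P ↔ a ∈ q := fun a => by
      rw [← hqw a, ← Submodule.Quotient.mk_eq_zero, Submodule.Quotient.mk_smul, Submodule.Quotient.mk_smul,
        Subtype.ext_iff]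
      rfl
    let S := Localization.AtPrime q
    haveI : IsNoetherianRing S := IsLocalization.isNoetherianRing q.primeCompl _ inferInstance
    let φ : R →+* S := algebraMap R S
    let B : (i : ℕ) → Matrix (Fin (n i)) (Fin (n (i + 1))) S := fun i => (A i).map φ
    have hB : ∀ j, j + 2 ≤ d + 1 → B j * B (j + 1) = 0 := fun j hj => by
      show (A j).map φ * (A (j + 1)).map φ = 0
      rw [← Matrix.map_mul, hA j hj, Matrix.map_zero _ (map_zero _)]
    have hu : ∀ j, j < d + 1 → LocCoh.depth S S ≤ j → CAlgX.minorIdeal (B j) (r j) = ⊤ := by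
      intro j hj hd
      by_contra hne
      rw [minorIdeal_map] at hne
      rcases hdet j hj with h | ⟨rs, hlen, hmem, hreg⟩
      · exact hne (by rw [h, Ideal.map_top])
      · have hwr : RingTheory.Sequence.IsWeaklyRegular S (rs.map φ) :=
          hreg.toIsWeaklyRegular.of_flat
        have h1 : ((j + 1 : ℕ) : ℕ∞) ≤ LocCoh.depth S S := by
          refine (GrothLib.Depth.le_idealDepth_iff_exists (maximalIdeal S)
            (GrothLib.Depth.smul_top_ne_top (maximalIdeal.isMaximal S).ne_top) (j + 1)).2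
            ⟨rs.map φ, by rw [List.length_map, hlen], ?_, hwr⟩
          intro y hy
          obtain ⟨x, hx, rfl⟩ := List.mem_map.1 hy
          exact le_maximalIdeal hne (Ideal.mem_map_of_mem _ (hmem x hx))
        exact Nat.not_succ_le_self j (by exact_mod_cast h1.trans hd)
    let xS : Fin (n (i + 1)) → S := φ ∘ (c • x)
    have hxker : xS ∈ LinearMap.ker (B i).mulVecLin := LinearMap.mem_ker.2 (funext fun j => by
      show ((A i).map φ *ᵥ (φ ∘ (c • x))) j = 0
      rw [← RingHom.map_mulVec, Matrix.mulVec_smul,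
        show A i *ᵥ x = 0 from LinearMap.mem_ker.1 hx, smul_zero, Pi.zero_apply, map_zero])
    have hnot : xS ∉ LinearMap.range (B (i + 1)).mulVecLin := fun h => by
      obtain ⟨s, hs, hsx⟩ := exists_smul_mem_range_of_map (A (i + 1)) q.primeCompl (c • x) h
      exact hs ((hcol s).1 hsx)
    by_cases ht : LocCoh.depth S S ≤ i
    · obtain ⟨f, g, hfg⟩ := exists_isUnit_minor (hu i (by omega) ht)
      obtain ⟨f', g', hfg'⟩ := exists_isUnit_minor (hu (i + 1) (by omega) (ht.trans (by exact_mod_cast Nat.le_succ i)))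
      have hab : r i + r (i + 1) = n (i + 1) := by
        have := σ_succ n hi
        rw [← hr i (by omega), ← hr (i + 1) (by omega)] at this
        exact_mod_cast this
      exact hnot ((ker_eq_range_of_minors (B i) (B (i + 1)) (hB i hi) hab hfg hfg').le hxker)
    · have h1 : ((1 : ℕ) : ℕ∞) ≤ LocCoh.depth S ((Fin (n (i + 1)) → S) ⧸ LinearMap.range (B (i + 1)).mulVecLin) :=
        le_depth_coker_min (d + 1) n B r hB hr (ker_map_eq_bot (A (d + 1 - 1)) q.primeCompl hinj) hu (i + 1)
          (by omega)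
          (fun j hj hj' => ker_map_eq_range_map (A j) q.primeCompl (A (j + 1))
            (ih (d + 1 - (j + 2)) (by omega) j hj' (by omega)))
          1 (by omega) (by
            rw [not_le] at ht
            exact le_trans (by exact_mod_cast Nat.le_add_left 1 i) (Order.add_one_le_of_lt ht))
      refine hnot ((Submodule.Quotient.mk_eq_zero _).1 (FlatOff.tf_of_idealDepth (by simpa [LocCoh.depth] using h1)
        (Submodule.Quotient.mk xS) fun a ha => ⟨1, ?_⟩))
      rw [pow_one, ← Submodule.Quotient.mk_smul, Submodule.Quotient.mk_eq_zero]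
      obtain ⟨⟨a', s⟩, has⟩ := IsLocalization.surj q.primeCompl a
      have ha' : a' ∈ q := by
        rw [← Localization.AtPrime.under_maximalIdeal (I := q)]
        show φ a' ∈ maximalIdeal S
        rw [← has]
        exact Ideal.mul_mem_right _ _ ha
      refine (Submodule.smul_mem_iff_of_isUnit _ (IsLocalization.map_units S s)).1 ?_
      rw [smul_smul, mul_comm, has]
      obtain ⟨y, hy⟩ := (hcol a').2 ha'
      refine ⟨φ ∘ y, funext fun j => ?_⟩
      show ((A (i + 1)).map φ *ᵥ (φ ∘ y)) j = φ a' * φ ((c • x) j)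
      rw [← RingHom.map_mulVec, ← map_mul]
      exact congrArg φ (congrFun hy j)

end GrothLib.BEExact
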