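import Mathlib
import Groth.Agent.Lib.BEExact.Criterion

/-!
# The criterion of Buchsbaum and Eisenbud: necessity
-/

set_option autoImplicit false
universe u

open Matrix Function IsLocalRing
open scoped Pointwise

namespace GrothLib.BEExact

variable {R : Type u} [CommRing R]

theorem isExact_map {S : Type u} [CommRing S] [Algebra R S] (T : Submonoid R) [IsLocalization T S]
    (e : ℕ) (n : ℕ → ℕ) (A : (i : ℕ) → Matrix (Fin (n i)) (Fin (n (i + 1))) R) (h : IsExact e n A) :
    IsExact e n (fun i => (A i).map (algebraMap R S)) :=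
  ⟨ker_map_eq_bot (A (e - 1)) T h.1, fun i hi => ker_map_eq_range_map (A i) T (A (i + 1)) (h.2 i hi)⟩

theorem IsExact.mul_eq_zero {e : ℕ} {n : ℕ → ℕ} {A : (i : ℕ) → Matrix (Fin (n i)) (Fin (n (i + 1))) R}
    (h : IsExact e n A) (i : ℕ) (hi : i + 2 ≤ e) : A i * A (i + 1) = 0 :=
  Matrix.ext_of_mulVec_single fun j => by
    rw [← Matrix.mulVec_mulVec, Matrix.zero_mulVec]
    exact LinearMap.mem_ker.1 ((h.2 i hi).ge ⟨_, rfl⟩)

/-- Over a local ring whose maximal ideal kills a nonzero element, exact complexes of free modules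
have unit minors of the expected sizes and no larger nonzero minors. -/
theorem exists_rank_of_killed [IsLocalRing R] {y : R} (hy : y ≠ 0) (hmy : ∀ a ∈ maximalIdeal R, a * y = 0)
    (e : ℕ) (n : ℕ → ℕ) (A : (i : ℕ) → Matrix (Fin (n i)) (Fin (n (i + 1))) R) (h : IsExact e n A)
    (i : ℕ) (hi : i < e) :
    ∃ r : ℕ, (r : ℤ) = σ e n i ∧ CAlgX.minorIdeal (A i) r = ⊤ ∧
      (∀ s, r < s → CAlgX.minorIdeal (A i) s = ⊥) ∧
      ∀ (f : Fin r → Fin (n i)) (g : Fin r → Fin (n (i + 1))), IsUnit ((A i).submatrix f g).det →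
        ∀ x, (A i).submatrix f id *ᵥ x = 0 → A i *ᵥ x = 0 := by
  have hP : ∀ (a b : ℕ) (M : Matrix (Fin a) (Fin b) R), Injective M.mulVecLin →
      CAlgX.minorIdeal M b = ⊤ := fun a b M hM => by
    by_contra hne
    have h1 := (GrothLib.McCoy19.injective_iff_annihilator_eq_bot M).1 hM
    refine hy ((Submodule.mem_bot R).1 (h1.le (Submodule.mem_annihilator.2 fun z hz => ?_)))
    rw [smul_eq_mul, mul_comm]
    exact hmy z (le_maximalIdeal hne hz)
  obtain ⟨k, hk⟩ : ∃ k, e = i + 1 + k := ⟨e - (i + 1), by omega⟩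
  induction k generalizing i with
  | zero =>
    obtain rfl : e = i + 1 := hk
    exact ⟨n (i + 1), (σ_last n rfl).symm, hP _ _ _ (LinearMap.ker_eq_bot.1 h.1),
      fun s hs => GrothLib.McCoy19.minorIdeal_eq_bot_of_lt _ hs,
      fun f g hfg x hx => by rw [eq_zero_of_isUnit_minor hfg hx, Matrix.mulVec_zero]⟩
  | succ k ih =>
    obtain ⟨b, hb, hbtop, -, hbker⟩ := ih (i + 1) (by omega) (by omega)
    obtain ⟨f', g', hB⟩ := exists_isUnit_minor hbtop
    obtain ⟨a, c, hab, hinj, hvan⟩ := exists_columns (A i) (A (i + 1)) (h.2 i (by omega)) hB (hbker f' g' hB)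
    refine ⟨a, ?_, top_le_iff.1 ((hP _ _ _ hinj).ge.trans (minorIdeal_submatrix_le (A i) c a)), hvan,
      fun f g hfg x hx => ?_⟩
    · have h1 := σ_succ n (show i + 2 ≤ e by omega)
      rw [← hb] at h1
      have h2 : (a : ℤ) + b = n (i + 1) := by exact_mod_cast hab
      linarith
    · obtain ⟨z, rfl⟩ := mem_range_of_rows (A i) (A (i + 1)) (h.mul_eq_zero i (by omega)) hab hfg hB hx
      rw [Matrix.mulVecLin_apply, Matrix.mulVec_mulVec, h.mul_eq_zero i (by omega), Matrix.zero_mulVec]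

variable [IsNoetherianRing R]

theorem eq_zero_of_forall_associatedPrimes (a : R)
    (h : ∀ (q : Ideal R) [q.IsPrime], q ∈ associatedPrimes R R →
      algebraMap R (Localization.AtPrime q) a = 0) : a = 0 := by
  by_contra ha
  obtain ⟨q, hq, hle⟩ := exists_le_isAssociatedPrime_of_isNoetherianRing R a ha
  haveI := hq.isPrime
  obtain ⟨s, hs⟩ := (IsLocalization.map_eq_zero_iff q.primeCompl (Localization.AtPrime q) a).1 (h q hq)
  exact s.2 (hle (Submodule.mem_colon_singleton.2 ((Submodule.mem_bot R).2 hs)))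

theorem exists_killed_localization (q : Ideal R) [q.IsPrime] (hq : q ∈ associatedPrimes R R) :
    ∃ z : Localization.AtPrime q, z ≠ 0 ∧ ∀ a ∈ maximalIdeal (Localization.AtPrime q), a * z = 0 := by
  obtain ⟨-, y, hy⟩ := isAssociatedPrime_iff.1 hq
  have hqy : ∀ a, a ∈ q ↔ a * y = 0 := fun a => by
    rw [hy, Submodule.mem_colon_singleton, Submodule.mem_bot, smul_eq_mul]
  refine ⟨algebraMap R _ y, fun h => ?_, fun a ha => ?_⟩
  · obtain ⟨s, hs⟩ := (IsLocalization.map_eq_zero_iff q.primeCompl (Localization.AtPrime q) y).1 h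
    exact s.2 ((hqy s).2 hs)
  · obtain ⟨⟨a', s⟩, has⟩ := IsLocalization.surj q.primeCompl a
    have ha' : a' ∈ q := by
      rw [← Localization.AtPrime.under_maximalIdeal (I := q)]
      show algebraMap R _ a' ∈ maximalIdeal (Localization.AtPrime q)
      rw [← has]
      exact Ideal.mul_mem_right _ _ ha
    refine (IsLocalization.map_units (Localization.AtPrime q) s).mul_left_eq_zero.1 ?_
    rw [mul_right_comm, has, ← map_mul, (hqy a').1 ha', map_zero]

/-- Exact complexes of free modules have the expected ranks. -/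
theorem exists_rank [Nontrivial R] (e : ℕ) (n : ℕ → ℕ)
    (A : (i : ℕ) → Matrix (Fin (n i)) (Fin (n (i + 1))) R) (h : IsExact e n A) (i : ℕ) (hi : i < e) :
    ∃ r : ℕ, (r : ℤ) = σ e n i ∧ (CAlgX.minorIdeal (A i) r).annihilator = ⊥ ∧
      ∀ s, r < s → CAlgX.minorIdeal (A i) s = ⊥ := by
  have hloc : ∀ (q : Ideal R) [q.IsPrime], q ∈ associatedPrimes R R → ∃ r : ℕ, (r : ℤ) = σ e n i ∧
      (CAlgX.minorIdeal (A i) r).map (algebraMap R (Localization.AtPrime q)) = ⊤ ∧
      ∀ s, r < s → (CAlgX.minorIdeal (A i) s).map (algebraMap R (Localization.AtPrime q)) = ⊥ := by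
    intro q _ hq
    obtain ⟨z, hz, hmz⟩ := exists_killed_localization q hq
    obtain ⟨r, hr, h1, h2, -⟩ := exists_rank_of_killed hz hmz e n _ (isExact_map q.primeCompl e n A h) i hi
    exact ⟨r, hr, by rwa [← minorIdeal_map], fun s hs => by rw [← minorIdeal_map]; exact h2 s hs⟩
  obtain ⟨q₀, hq₀⟩ := associatedPrimes.nonempty R R
  haveI := hq₀.isPrime
  obtain ⟨r, hr, -, -⟩ := hloc q₀ hq₀
  refine ⟨r, hr, eq_bot_iff.2 fun a ha => ?_, fun s hs => eq_bot_iff.2 fun a ha => ?_⟩
  · refine (Submodule.mem_bot R).2 (eq_zero_of_forall_associatedPrimes a fun q _ hq => ?_)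
    obtain ⟨r', hr', h1, -⟩ := hloc q hq
    obtain rfl : r' = r := by exact_mod_cast hr'.trans hr.symm
    have h2 : ∀ w ∈ (CAlgX.minorIdeal (A i) r').map (algebraMap R (Localization.AtPrime q)),
        algebraMap R _ a * w = 0 := fun w hw => by
      induction hw using Submodule.span_induction with
      | mem w hw =>
        obtain ⟨w, hw, rfl⟩ := hw
        rw [← map_mul, ← smul_eq_mul, Submodule.mem_annihilator.1 ha w hw, map_zero]
      | zero => simp
      | add u v _ _ hu hv => rw [mul_add, hu, hv, add_zero]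
      | smul c u _ hu => rw [smul_eq_mul, mul_left_comm, hu, mul_zero]
    simpa using h2 1 (h1 ▸ trivial)
  · refine (Submodule.mem_bot R).2 (eq_zero_of_forall_associatedPrimes a fun q _ hq => ?_)
    obtain ⟨r', hr', -, h2⟩ := hloc q hq
    obtain rfl : r' = r := by exact_mod_cast hr'.trans hr.symm
    exact (Submodule.mem_bot _).1 ((h2 s hs).le (Ideal.mem_map_of_mem _ ha))

theorem σ_shift (e : ℕ) (n : ℕ → ℕ) (i : ℕ) :
    σ e (fun j => n (j + 1)) i = σ (e + 1) n (i + 1) := by
  rw [σ, σ, Nat.add_sub_add_right]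
  refine Finset.sum_congr rfl fun s _ => ?_
  show _ * ((n (i + 1 + s + 1) : ℕ) : ℤ) = _
  rw [show i + 1 + s + 1 = i + 1 + 1 + s by omega]

theorem depth_quotient_le [IsLocalRing R] {x : R} [IsLocalRing (R ⧸ Ideal.span {x})] (hx : x ∈ maximalIdeal R)
    (hreg : IsSMulRegular R x) (t : ℕ) (ht : LocCoh.depth R R ≤ (t + 1 : ℕ)) :
    LocCoh.depth (R ⧸ Ideal.span {x}) (R ⧸ Ideal.span {x}) ≤ t := by
  by_contra hlt
  rw [not_le] at hlt
  obtain ⟨rs', hlen, hmem, hwr⟩ := (GrothLib.Depth.le_idealDepth_iff_exists (maximalIdeal (R ⧸ Ideal.span {x}))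
    (GrothLib.Depth.smul_top_ne_top (maximalIdeal.isMaximal _).ne_top) (t + 1)).1
    (by exact_mod_cast Order.add_one_le_of_lt hlt)
  obtain ⟨rs, rfl⟩ : ∃ rs : List R, rs.map (algebraMap R (R ⧸ Ideal.span {x})) = rs' :=
    List.map_surjective_iff.2 Ideal.Quotient.mk_surjective rs'
  have h1 : RingTheory.Sequence.IsWeaklyRegular R (x :: rs) := by
    rw [RingTheory.Sequence.isWeaklyRegular_cons_iff]
    refine ⟨hreg, ?_⟩
    have h2 := (RingTheory.Sequence.isWeaklyRegular_map_algebraMap_iff (R ⧸ Ideal.span {x})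
      (R ⧸ Ideal.span {x}) rs).1 hwr
    exact ((Submodule.quotEquivOfEq (Ideal.span {x}) (x • (⊤ : Submodule R R)) (by
      rw [← Submodule.ideal_span_singleton_smul, Ideal.smul_eq_mul, Ideal.mul_top])).isWeaklyRegular_congr rs).1 h2
  have h3 : ((t + 1 + 1 : ℕ) : ℕ∞) ≤ LocCoh.depth R R := by
    refine (GrothLib.Depth.le_idealDepth_iff_exists (maximalIdeal R)
      (GrothLib.Depth.smul_top_ne_top (maximalIdeal.isMaximal R).ne_top) _).2 ⟨x :: rs, ?_, ?_, h1⟩
    · rw [List.length_cons]; rw [List.length_map] at hlen; omega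
    · intro r hr
      rcases List.mem_cons.1 hr with rfl | hr
      · exact hx
      · intro hu
        exact hmem _ (List.mem_map_of_mem hr) (hu.map _)
  exact Nat.not_succ_le_self (t + 1) (by exact_mod_cast h3.trans ht)

omit [IsNoetherianRing R] in
theorem exists_smul_eq_of_map_eq_zero {x : R} {m : ℕ} (v : Fin m → R)
    (h : Ideal.Quotient.mk (Ideal.span {x}) ∘ v = 0) : ∃ w : Fin m → R, v = x • w := by
  choose w hw using fun k => Ideal.mem_span_singleton'.1 (Ideal.Quotient.eq_zero_iff_mem.1 (congrFun h k))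
  exact ⟨w, funext fun k => by rw [Pi.smul_apply, smul_eq_mul, mul_comm, hw k]⟩

omit [IsNoetherianRing R] in
theorem eq_zero_of_smul_regular {x : R} (hx : IsSMulRegular R x) {m : ℕ} {v : Fin m → R}
    (h : x • v = 0) : v = 0 :=
  funext fun k => hx ((congrFun h k).trans (smul_zero x).symm)

omit [IsNoetherianRing R] in
/-- The tail of an exact complex of free modules stays exact modulo a regular element. -/
theorem isExact_quotient (e : ℕ) (he : 1 ≤ e) (n : ℕ → ℕ)
    (A : (i : ℕ) → Matrix (Fin (n i)) (Fin (n (i + 1))) R) (h : IsExact (e + 1) n A) {x : R}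
    (hx : IsSMulRegular R x) :
    IsExact e (fun j => n (j + 1)) (fun j => (A (j + 1)).map (Ideal.Quotient.mk (Ideal.span {x}))) := by
  have key : ∀ j, j + 2 ≤ e + 1 → ∀ v : Fin (n (j + 1 + 1)) → R,
      Ideal.Quotient.mk (Ideal.span {x}) ∘ (A (j + 1) *ᵥ v) = 0 →
      ∃ u : Fin (n (j + 1 + 1)) → R, A (j + 1) *ᵥ (v - x • u) = 0 := by
    intro j hj v hv
    obtain ⟨w, hw⟩ := exists_smul_eq_of_map_eq_zero _ hv
    have h0 : A j *ᵥ w = 0 := eq_zero_of_smul_regular hx (by
      rw [← Matrix.mulVec_smul, ← hw, Matrix.mulVec_mulVec, h.mul_eq_zero j hj, Matrix.zero_mulVec])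
    obtain ⟨u, hu⟩ := (h.2 j hj).le (LinearMap.mem_ker.2 h0 : w ∈ LinearMap.ker (A j).mulVecLin)
    exact ⟨u, by rw [Matrix.mulVec_sub, Matrix.mulVec_smul, hw, ← hu, Matrix.mulVecLin_apply, sub_self]⟩
  have lift : ∀ {m : ℕ} (y : Fin m → R ⧸ Ideal.span {x}), ∃ v, y = Ideal.Quotient.mk (Ideal.span {x}) ∘ v :=
    fun y => ⟨fun k => (Ideal.Quotient.mk_surjective (y k)).choose,
      funext fun k => (Ideal.Quotient.mk_surjective (y k)).choose_spec.symm⟩
  have hmk : ∀ {m : ℕ} (u : Fin m → R), Ideal.Quotient.mk (Ideal.span {x}) ∘ (x • u) = 0 := fun u =>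
    funext fun k => Ideal.Quotient.eq_zero_iff_mem.2 (Ideal.mul_mem_right _ _ (Ideal.mem_span_singleton_self x))
  obtain ⟨d, rfl⟩ : ∃ d, e = d + 1 := ⟨e - 1, by omega⟩
  refine ⟨?_, fun j hj => le_antisymm ?_ ?_⟩
  · show LinearMap.ker ((A (d + 1)).map (Ideal.Quotient.mk (Ideal.span {x}))).mulVecLin = ⊥
    refine LinearMap.ker_eq_bot'.2 fun y hy => ?_
    obtain ⟨v, rfl⟩ := lift y
    obtain ⟨u, hu⟩ := key d le_rfl v (funext fun k => by
      rw [Function.comp_apply, RingHom.map_mulVec]; exact congrFun hy k)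
    have h1 : v - x • u = 0 := LinearMap.ker_eq_bot'.1 h.1 _ hu
    rw [sub_eq_zero.1 h1, hmk]
  · intro y hy
    obtain ⟨v, rfl⟩ := lift y
    obtain ⟨u, hu⟩ := key j (by omega) v (funext fun k => by
      rw [Function.comp_apply, RingHom.map_mulVec]; exact congrFun (LinearMap.mem_ker.1 hy) k)
    obtain ⟨z, hz⟩ := (h.2 (j + 1) (by omega)).le (LinearMap.mem_ker.2 hu)
    refine ⟨Ideal.Quotient.mk (Ideal.span {x}) ∘ z, funext fun k => ?_⟩
    show ((A (j + 1 + 1)).map _ *ᵥ (Ideal.Quotient.mk (Ideal.span {x}) ∘ z)) k = _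
    rw [← RingHom.map_mulVec, ← Matrix.mulVecLin_apply, hz, Function.comp_apply, Pi.sub_apply, map_sub,
      show Ideal.Quotient.mk (Ideal.span {x}) ((x • u) k) = 0 from congrFun (hmk u) k, sub_zero]
  · rintro _ ⟨y, rfl⟩
    rw [LinearMap.mem_ker, Matrix.mulVecLin_apply, Matrix.mulVecLin_apply, Matrix.mulVec_mulVec,
      ← Matrix.map_mul, h.mul_eq_zero (j + 1) (by omega), Matrix.map_zero _ (map_zero _), Matrix.zero_mulVec]

/-- In an exact complex over a local ring, the minors of expected size generate the unit ideal from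
the depth of the ring on. -/
theorem minorIdeal_eq_top_of_depth_le (t : ℕ) : ∀ (R : Type u) [CommRing R] [IsLocalRing R] [IsNoetherianRing R]
    (e : ℕ) (n : ℕ → ℕ) (A : (i : ℕ) → Matrix (Fin (n i)) (Fin (n (i + 1))) R),
    LocCoh.depth R R ≤ t → IsExact e n A → ∀ i, i < e → t ≤ i → ∀ r : ℕ, (r : ℤ) = σ e n i →
      CAlgX.minorIdeal (A i) r = ⊤ := by
  induction t with
  | zero =>
    intro R _ _ _ e n A hd h i hi _ r hr
    obtain ⟨q, hq, hle⟩ := GrothLib.Depth.exists_associatedPrime_ge (M := R) (maximalIdeal.isMaximal R).ne_top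
      (fun h1 => not_le.2 (by exact_mod_cast Nat.zero_lt_one) ((show (1 : ℕ∞) ≤ LocCoh.depth R R from h1).trans hd))
    obtain rfl : q = maximalIdeal R := ((maximalIdeal.isMaximal R).eq_of_le hq.isPrime.ne_top hle).symm
    obtain ⟨-, y, hy⟩ := isAssociatedPrime_iff.1 hq
    have hy0 : y ≠ 0 := by
      rintro rfl
      exact (maximalIdeal.isMaximal R).ne_top (hy.trans (Ideal.eq_top_iff_one _ |>.2
        (Submodule.mem_colon_singleton.2 (by simp))))
    obtain ⟨r', hr', h1, -⟩ := exists_rank_of_killed hy0 (fun a ha => by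
      rw [hy, Submodule.mem_colon_singleton, Submodule.mem_bot, smul_eq_mul] at ha; exact ha) e n A h i hi
    obtain rfl : r' = r := by exact_mod_cast hr'.trans hr.symm
    exact h1
  | succ t ih =>
    intro R _ _ _ e n A hd h i hi hti r hr
    by_cases hd' : LocCoh.depth R R ≤ t
    · exact ih R e n A hd' h i hi (by omega) r hr
    obtain ⟨x, hx, hreg⟩ := (GrothLib.Depth.one_le_idealDepth_iff (M := R) (maximalIdeal.isMaximal R).ne_top).1
      (show (1 : ℕ∞) ≤ LocCoh.depth R R by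
        rw [not_le] at hd'
        exact le_trans (by simp) (Order.add_one_le_of_lt hd'))
    obtain ⟨e, rfl⟩ : ∃ e', e = e' + 1 := ⟨e - 1, by omega⟩
    obtain ⟨i, rfl⟩ : ∃ i', i = i' + 1 := ⟨i - 1, by omega⟩
    haveI : Nontrivial (R ⧸ Ideal.span {x}) := Ideal.Quotient.nontrivial_iff.2
      ((Ideal.span_singleton_le_iff_mem (maximalIdeal R)).2 hx |>.trans_lt
        (maximalIdeal.isMaximal R).ne_top.lt_top).ne
    haveI : IsLocalRing (R ⧸ Ideal.span {x}) :=
      IsLocalRing.of_surjective' (Ideal.Quotient.mk _) Ideal.Quotient.mk_surjective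
    have h1 := ih (R ⧸ Ideal.span {x}) e (fun j => n (j + 1))
      (fun j => (A (j + 1)).map (Ideal.Quotient.mk (Ideal.span {x}))) (depth_quotient_le hx hreg t hd)
      (isExact_quotient e (by omega) n A h hreg) i (by omega) (by omega) r (hr.trans (σ_shift e n i).symm)
    rw [minorIdeal_map] at h1
    by_contra hne
    obtain ⟨a, ha, ha1⟩ := (Ideal.mem_map_iff_of_surjective _ Ideal.Quotient.mk_surjective).1
      (h1.symm ▸ Submodule.mem_top (x := (1 : R ⧸ Ideal.span {x})))
    refine (maximalIdeal.isMaximal R).ne_top ((Ideal.eq_top_iff_one _).2 ?_)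
    have h2 : a - 1 ∈ maximalIdeal R := (Ideal.span_singleton_le_iff_mem (maximalIdeal R)).2 hx
      (Ideal.Quotient.eq_zero_iff_mem.1 (by rw [map_sub, ha1, map_one, sub_self]))
    simpa using (maximalIdeal R).sub_mem (le_maximalIdeal hne ha) h2

/-- Necessity in the criterion of Buchsbaum and Eisenbud. -/
theorem ranks_of_isExact [IsLocalRing R] (e : ℕ) (n : ℕ → ℕ)
    (A : (i : ℕ) → Matrix (Fin (n i)) (Fin (n (i + 1))) R) (h : IsExact e n A) (i : ℕ) (hi : i < e) :
    (CAlgX.matrixRank (A i) : ℤ) = σ e n i ∧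
      (CAlgX.detIdeal (A i) = ⊤ ∨ ∃ rs : List R, rs.length = i + 1 ∧
        (∀ r ∈ rs, r ∈ CAlgX.detIdeal (A i)) ∧ RingTheory.Sequence.IsRegular R rs) := by
  obtain ⟨r, hr, hann, hvan⟩ := exists_rank e n A h i hi
  have hrank : CAlgX.matrixRank (A i) = r := by
    refine IsGreatest.csSup_eq ⟨fun h0 => ?_, fun s hs => not_lt.1 fun hlt => hs (hvan s hlt)⟩
    rw [h0, Submodule.annihilator_bot] at hann
    exact top_ne_bot hann
  rw [CAlgX.detIdeal, hrank]
  refine ⟨hr, or_iff_not_imp_left.2 fun hne => ?_⟩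
  have hIM := GrothLib.Depth.smul_top_ne_top (M := R) hne
  obtain ⟨d, hd⟩ := ENat.ne_top_iff_exists.1 (GrothLib.Depth.idealDepth_ne_top (M := R) hne)
  by_cases hid : i + 1 ≤ d
  · obtain ⟨rs, h1, h2, h3⟩ := (GrothLib.Depth.le_idealDepth_iff_exists _ hIM (i + 1)).1
      (le_trans (by exact_mod_cast hid) hd.le)
    exact ⟨rs, h1, h2, GrothLib.Depth.isRegular_of_isWeaklyRegular _ hIM h3 h2⟩
  · exfalso
    obtain ⟨p, hp, hpd⟩ := GrothLib.Depth.exists_depth_localization_le (M := R) _ d hd.symm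
    haveI : IsNoetherianRing (Localization.AtPrime p.asIdeal) :=
      IsLocalization.isNoetherianRing p.asIdeal.primeCompl _ inferInstance
    rw [GrothLib.Depth.depth_localization_self] at hpd
    have h1 := minorIdeal_eq_top_of_depth_le d (Localization.AtPrime p.asIdeal) e n _ hpd
      (isExact_map p.asIdeal.primeCompl e n A h) i hi (by omega) r hr
    rw [minorIdeal_map] at h1
    refine (maximalIdeal.isMaximal (Localization.AtPrime p.asIdeal)).ne_top (top_le_iff.1 (h1.ge.trans ?_))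
    rw [← Localization.AtPrime.map_eq_maximalIdeal]
    exact Ideal.map_mono hp

end GrothLib.BEExact
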