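import Mathlib
import Groth.Agent.Lib.BEExact.Ranks
import Groth.Agent.Lib.HB26.Basic

/-!
# Depth of determinantal ideals in finite free resolutions of ideals
-/

set_option autoImplicit false
universe u

open Matrix Function IsLocalRing

namespace GrothLib.BEExact

variable {R : Type u} [CommRing R]

/-- A linear form on `R^n` as a row matrix. -/
def rowMatrix {n : ℕ} (π : (Fin n → R) →ₗ[R] R) : Matrix (Fin 1) (Fin n) R :=
  Matrix.of fun _ j => π (Pi.single j 1)

theorem rowMatrix_mulVec {n : ℕ} (π : (Fin n → R) →ₗ[R] R) (x : Fin n → R) :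
    rowMatrix π *ᵥ x = fun _ => π x := by
  funext i
  conv_rhs => rw [← Finset.univ_sum_single x, map_sum]
  show ∑ j, π (Pi.single j 1) * x j = ∑ j, π (Pi.single j (x j) : Fin n → R)
  refine Finset.sum_congr rfl fun j _ => ?_
  show π (Pi.single j 1) * x j = π (Pi.single j (x j) : Fin n → R)
  rw [mul_comm, ← smul_eq_mul, ← map_smul, ← Pi.single_smul', smul_eq_mul, mul_one]

theorem ker_rowMatrix {n : ℕ} (π : (Fin n → R) →ₗ[R] R) :
    LinearMap.ker (rowMatrix π).mulVecLin = LinearMap.ker π := by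
  ext x
  rw [LinearMap.mem_ker, LinearMap.mem_ker, Matrix.mulVecLin_apply, rowMatrix_mulVec]
  exact ⟨fun h => congrFun h 0, fun h => funext fun _ => h⟩

theorem minorIdeal_rowMatrix_one {n : ℕ} (π : (Fin n → R) →ₗ[R] R) :
    CAlgX.minorIdeal (rowMatrix π) 1 = LinearMap.range π := by
  refine le_antisymm (Ideal.span_le.2 ?_) ?_
  · rintro _ ⟨⟨f, g⟩, rfl⟩
    exact ⟨Pi.single (g 0) 1, by simp [rowMatrix, Matrix.det_fin_one]⟩
  · rintro _ ⟨x, rfl⟩
    rw [← Finset.univ_sum_single x, map_sum]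
    refine sum_mem fun j _ => ?_
    rw [show (Pi.single j (x j) : Fin n → R) = x j • Pi.single j 1 by
      rw [← Pi.single_smul', smul_eq_mul, mul_one], map_smul]
    exact Ideal.mul_mem_left _ _ (Ideal.subset_span ⟨(fun _ => 0, fun _ => j), by simp [rowMatrix, Matrix.det_fin_one]⟩)

variable [IsNoetherianRing R]

theorem exists_mem_nonZeroDivisors {I : Ideal R} (h : I.annihilator = ⊥) :
    ∃ x, x ∈ I ∧ x ∈ nonZeroDivisors R := by
  rcases subsingleton_or_nontrivial R with hR | hR
  · exact ⟨0, I.zero_mem, mem_nonZeroDivisors_iff_right.2 fun x _ => Subsingleton.elim _ _⟩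
  by_contra hne
  have hsub : (I : Set R) ⊆ ⋃ p ∈ associatedPrimes R R, (p : Set R) := by
    intro x hx
    rw [biUnion_associatedPrimes_eq_compl_nonZeroDivisors]
    exact fun h1 => hne ⟨x, hx, h1⟩
  have hfin := associatedPrimes.finite R R
  obtain ⟨q₀, hq₀⟩ := associatedPrimes.nonempty R R
  rw [← hfin.coe_toFinset] at hsub
  obtain ⟨p, hp, hle⟩ := (Ideal.subset_union_prime q₀ q₀
    (fun q hq _ _ => (hfin.mem_toFinset.1 hq).isPrime)).1 hsub
  obtain ⟨-, y, hy⟩ := isAssociatedPrime_iff.1 (hfin.mem_toFinset.1 hp)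
  have hy0 : y = 0 := (Submodule.mem_bot R).1 (h.le (Submodule.mem_annihilator.2 fun z hz => by
    have := hle hz
    rw [hy, Submodule.mem_colon_singleton, Submodule.mem_bot] at this
    rw [smul_eq_mul, mul_comm]
    exact this))
  subst hy0
  refine (hfin.mem_toFinset.1 hp).isPrime.ne_top (hy.trans ((Ideal.eq_top_iff_one _).2 ?_))
  simp [Submodule.mem_colon_singleton]

/-- In an exact complex, the minors of expected size at the place `i` have depth at least `i + 1`. -/
theorem le_idealDepth_minorIdeal (e : ℕ) (n : ℕ → ℕ)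
    (A : (i : ℕ) → Matrix (Fin (n i)) (Fin (n (i + 1))) R) (h : IsExact e n A) (i : ℕ) (hi : i < e)
    (r : ℕ) (hr : (r : ℤ) = σ e n i) :
    ((i + 1 : ℕ) : ℕ∞) ≤ LocCoh.idealDepth (CAlgX.minorIdeal (A i) r) R := by
  by_cases hne : CAlgX.minorIdeal (A i) r = ⊤
  · rw [LocCoh.idealDepth, if_pos (by rw [hne, Submodule.top_smul])]
    exact le_top
  by_contra hlt
  rw [not_le] at hlt
  obtain ⟨d, hd⟩ := ENat.ne_top_iff_exists.1 hlt.ne_top
  rw [← hd] at hlt
  have hid : d ≤ i := by
    have : d < i + 1 := by exact_mod_cast hlt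
    omega
  obtain ⟨p, hp, hpd⟩ := GrothLib.Depth.exists_depth_localization_le (M := R) _ d hd.symm
  haveI : IsNoetherianRing (Localization.AtPrime p.asIdeal) :=
    IsLocalization.isNoetherianRing p.asIdeal.primeCompl _ inferInstance
  rw [GrothLib.Depth.depth_localization_self] at hpd
  have h1 := minorIdeal_eq_top_of_depth_le d (Localization.AtPrime p.asIdeal) e n _ hpd
    (isExact_map p.asIdeal.primeCompl e n A h) i hi hid r hr
  rw [minorIdeal_map] at h1
  refine (maximalIdeal.isMaximal (Localization.AtPrime p.asIdeal)).ne_top (top_le_iff.1 (h1.ge.trans ?_))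
  rw [← Localization.AtPrime.map_eq_maximalIdeal]
  exact Ideal.map_mono hp

/-- The sizes of a resolution with a term `R` put in front. -/
def consSize (n : ℕ → ℕ) : ℕ → ℕ
  | 0 => 1
  | j + 1 => n j

/-- A resolution with a linear form put in front. -/
def consRow (n : ℕ → ℕ) (π : (Fin (n 0) → R) →ₗ[R] R) (A : (i : ℕ) → Matrix (Fin (n i)) (Fin (n (i + 1))) R) :
    (i : ℕ) → Matrix (Fin (consSize n i)) (Fin (consSize n (i + 1))) R
  | 0 => rowMatrix π
  | j + 1 => A j

omit [IsNoetherianRing R] in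
theorem isExact_consRow (e : ℕ) (he : 1 ≤ e) (n : ℕ → ℕ)
    (A : (i : ℕ) → Matrix (Fin (n i)) (Fin (n (i + 1))) R) (π : (Fin (n 0) → R) →ₗ[R] R)
    (h0 : LinearMap.ker π = LinearMap.range (A 0).mulVecLin) (h : IsExact e n A) :
    IsExact (e + 1) (consSize n) (consRow n π A) := by
  obtain ⟨d, rfl⟩ : ∃ d, e = d + 1 := ⟨e - 1, by omega⟩
  refine ⟨h.1, fun i hi => ?_⟩
  rcases i with - | j
  · exact (ker_rowMatrix π).trans h0
  · exact h.2 j (by omega)

/-- The linear form in front of a resolution has rank one. -/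
theorem rank_rowMatrix [Nontrivial R] (e : ℕ) (he : 1 ≤ e) (n : ℕ → ℕ)
    (A : (i : ℕ) → Matrix (Fin (n i)) (Fin (n (i + 1))) R) (π : (Fin (n 0) → R) →ₗ[R] R)
    (hI : LinearMap.range π ≠ ⊥)
    (h0 : LinearMap.ker π = LinearMap.range (A 0).mulVecLin) (h : IsExact e n A) :
    σ (e + 1) (consSize n) 0 = 1 ∧ Submodule.annihilator (LinearMap.range π) = ⊥ := by
  obtain ⟨r, hr, hann, hvan⟩ := exists_rank (e + 1) (consSize n) (consRow n π A)
    (isExact_consRow e he n A π h0 h) 0 (by omega)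
  have hr1 : r = 1 := by
    rcases Nat.lt_trichotomy r 1 with h1 | h1 | h1
    · exact absurd ((minorIdeal_rowMatrix_one π).symm.trans (hvan 1 h1)) hI
    · exact h1
    · have h2 : CAlgX.minorIdeal (rowMatrix π) r = ⊥ := Ideal.span_eq_bot.2 (by
        rintro _ ⟨⟨f, g⟩, rfl⟩
        exact Matrix.det_zero_of_row_eq (i := (⟨0, by omega⟩ : Fin r)) (j := ⟨1, h1⟩) (by simp [Fin.ext_iff])
          (by ext; simp [rowMatrix]))
      change (CAlgX.minorIdeal (rowMatrix π) r).annihilator = ⊥ at hann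
      rw [h2, Submodule.annihilator_bot] at hann
      exact absurd hann top_ne_bot
  subst hr1
  refine ⟨by rw [← hr]; rfl, ?_⟩
  change (CAlgX.minorIdeal (rowMatrix π) 1).annihilator = ⊥ at hann
  rwa [minorIdeal_rowMatrix_one] at hann

/-- The sizes of a complex of length one. -/
def pairSize (n m : ℕ) : ℕ → ℕ
  | 0 => n
  | 1 => m
  | _ + 2 => 0

/-- A matrix as a complex of length one. -/
def pairMat {n m : ℕ} (Ψ : Matrix (Fin n) (Fin m) R) :
    (i : ℕ) → Matrix (Fin (pairSize n m i)) (Fin (pairSize n m (i + 1))) R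
  | 0 => Ψ
  | _ + 1 => 0

omit [IsNoetherianRing R] in
theorem span_range_minors {t : ℕ} (Ψ : Matrix (Fin (t + 1)) (Fin t) R) :
    Ideal.span (Set.range (HB26.minors Ψ)) = CAlgX.minorIdeal Ψ t := by
  refine le_antisymm (Ideal.span_le.2 ?_) (Ideal.span_le.2 ?_)
  · rintro _ ⟨i, rfl⟩
    exact Ideal.mul_mem_left _ _ (Ideal.subset_span ⟨(i.succAbove, id), rfl⟩)
  · rintro _ ⟨⟨f, g⟩, rfl⟩
    by_cases hg : Injective g
    swap
    · obtain ⟨a, b, hab, hne⟩ := Function.not_injective_iff.1 hg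
      show (Ψ.submatrix f g).det ∈ _
      rw [Matrix.det_zero_of_column_eq hne (fun k => by simp [hab])]
      exact Submodule.zero_mem _
    by_cases hf : Injective f
    swap
    · obtain ⟨a, b, hab, hne⟩ := Function.not_injective_iff.1 hf
      show (Ψ.submatrix f g).det ∈ _
      rw [Matrix.det_zero_of_row_eq hne (by ext; simp [hab])]
      exact Submodule.zero_mem _
    obtain ⟨i, hi⟩ : ∃ i, ∀ a, f a ≠ i := by
      by_contra hall
      push Not at hall
      simpa using Fintype.card_le_of_surjective f hall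
    choose σ hσ using fun a => Fin.exists_succAbove_eq (hi a)
    obtain rfl : f = i.succAbove ∘ σ := funext fun a => (hσ a).symm
    let eσ : Equiv.Perm (Fin t) := Equiv.ofBijective σ (Finite.injective_iff_bijective.1 hf.of_comp)
    let eg : Equiv.Perm (Fin t) := Equiv.ofBijective g (Finite.injective_iff_bijective.1 hg)
    have h1 : Ψ.submatrix (i.succAbove ∘ σ) g = ((Ψ.submatrix i.succAbove id).submatrix eσ id).submatrix id eg :=
      rfl
    have h2 : (Ψ.submatrix i.succAbove id).det ∈ Ideal.span (Set.range (HB26.minors Ψ)) := by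
      rw [show (Ψ.submatrix i.succAbove id).det = (-1) ^ (i : ℕ) * HB26.minors Ψ i by
        rw [HB26.minors, ← mul_assoc, ← mul_pow, neg_one_mul, neg_neg, one_pow, one_mul]]
      exact Ideal.mul_mem_left _ _ (Ideal.subset_span ⟨i, rfl⟩)
    show (Ψ.submatrix (i.succAbove ∘ σ) g).det ∈ _
    rw [h1, Matrix.det_permute', Matrix.det_permute]
    exact Ideal.mul_mem_left _ _ (Ideal.mul_mem_left _ _ h2)

omit [IsNoetherianRing R] in
theorem range_linearCombination_minors {t : ℕ} (Ψ : Matrix (Fin (t + 1)) (Fin t) R) (a : R) :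
    LinearMap.range (Fintype.linearCombination R fun i => a * HB26.minors Ψ i) =
      Ideal.span {a} * CAlgX.minorIdeal Ψ t := by
  rw [Fintype.range_linearCombination, ← span_range_minors, Ideal.span_mul_span']
  congr 1
  ext x
  simp [Set.mem_mul]

/-- The complex of a matrix and its signed maximal minors is exact as soon as the minors have depth
at least two. -/
theorem exact_minors {t : ℕ} (Ψ : Matrix (Fin (t + 1)) (Fin t) R)
    (hdepth : 2 ≤ LocCoh.idealDepth (CAlgX.minorIdeal Ψ t) R) {a : R} (ha : a ∈ nonZeroDivisors R) :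
    LinearMap.ker Ψ.mulVecLin = ⊥ ∧
      LinearMap.ker (Fintype.linearCombination R fun i => a * HB26.minors Ψ i) =
        LinearMap.range Ψ.mulVecLin := by
  rcases subsingleton_or_nontrivial R with hR | hR
  · exact ⟨Subsingleton.elim _ _, Subsingleton.elim _ _⟩
  let π := Fintype.linearCombination R fun i => a * HB26.minors Ψ i
  let r : ℕ → ℕ
    | 0 => 1
    | _ + 1 => t
  have hmul : ∀ i, i + 2 ≤ 2 → consRow (pairSize (t + 1) t) π (pairMat Ψ) i *
      consRow (pairSize (t + 1) t) π (pairMat Ψ) (i + 1) = 0 := by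
    intro i hi
    obtain rfl : i = 0 := by omega
    show rowMatrix π * Ψ = (0 : Matrix (Fin 1) (Fin t) R)
    refine Matrix.ext_of_mulVec_single fun j => ?_
    rw [← Matrix.mulVec_mulVec, Matrix.zero_mulVec, rowMatrix_mulVec]
    funext
    have h0 : Matrix.vecMul (fun i => a * HB26.minors Ψ i) Ψ = 0 := by
      rw [show (fun i => a * HB26.minors Ψ i) = a • HB26.minors Ψ from rfl, Matrix.smul_vecMul,
        HB26.vecMul_minors, smul_zero]
    exact LinearMap.mem_ker.1 (HB26.range_le_ker _ _ h0 ⟨_, rfl⟩)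
  have hr : ∀ i, i < 2 → (r i : ℤ) = σ 2 (consSize (pairSize (t + 1) t)) i := by
    intro i hi
    interval_cases i <;> simp [r, σ, consSize, pairSize, Finset.sum_range_succ]
  obtain ⟨hwr, htop⟩ : (CAlgX.minorIdeal Ψ t = ⊤ ∨ ∃ rs : List R, rs.length = 2 ∧
      (∀ x ∈ rs, x ∈ CAlgX.minorIdeal Ψ t) ∧ RingTheory.Sequence.IsRegular R rs) ∧
      ∃ x ∈ CAlgX.minorIdeal Ψ t, x ∈ nonZeroDivisors R := by
    by_cases hne : CAlgX.minorIdeal Ψ t = ⊤
    · exact ⟨Or.inl hne, 1, hne ▸ trivial, one_mem _⟩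
    · have hIM : CAlgX.minorIdeal Ψ t • (⊤ : Submodule R R) ≠ ⊤ := by
        rwa [Ideal.smul_eq_mul, Ideal.mul_top]
      obtain ⟨rs, h1, h2, h3⟩ := (GrothLib.Depth.le_idealDepth_iff_exists _ hIM 2).1 hdepth
      refine ⟨Or.inr ⟨rs, h1, h2, GrothLib.Depth.isRegular_of_isWeaklyRegular _ hIM h3 h2⟩, ?_⟩
      rcases rs with - | ⟨x, rs⟩
      · simp at h1
      exact ⟨x, h2 x List.mem_cons_self,
        mem_nonZeroDivisors_iff_right.2 fun y hy => ((RingTheory.Sequence.isWeaklyRegular_cons_iff R x rs).1 h3).1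
          (show x • y = x • 0 by rw [smul_zero, smul_eq_mul, mul_comm, hy])⟩
  have hdet : ∀ i, i < 2 → CAlgX.minorIdeal (consRow (pairSize (t + 1) t) π (pairMat Ψ) i) (r i) = ⊤ ∨
      ∃ rs : List R, rs.length = i + 1 ∧ (∀ x ∈ rs, x ∈ CAlgX.minorIdeal (consRow (pairSize (t + 1) t) π (pairMat Ψ) i) (r i)) ∧
        RingTheory.Sequence.IsRegular R rs := by
    intro i hi
    interval_cases i
    · show CAlgX.minorIdeal (rowMatrix π) 1 = ⊤ ∨ ∃ rs : List R, rs.length = 1 ∧
        (∀ x ∈ rs, x ∈ CAlgX.minorIdeal (rowMatrix π) 1) ∧ RingTheory.Sequence.IsRegular R rs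
      rw [minorIdeal_rowMatrix_one, range_linearCombination_minors]
      refine or_iff_not_imp_left.2 fun hne => ?_
      obtain ⟨x, hx, hx0⟩ := htop
      have hmem : a * x ∈ Ideal.span {a} * CAlgX.minorIdeal Ψ t :=
        Ideal.mul_mem_mul (Ideal.mem_span_singleton_self a) hx
      refine ⟨[a * x], rfl, by simpa using hmem, GrothLib.Depth.isRegular_of_isWeaklyRegular (Ideal.span {a} * CAlgX.minorIdeal Ψ t)
        (by rwa [Ideal.smul_eq_mul, Ideal.mul_top]) ?_ (by simpa using hmem)⟩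
      rw [RingTheory.Sequence.isWeaklyRegular_singleton_iff]
      exact fun y z hyz => sub_eq_zero.1 (mem_nonZeroDivisors_iff_right.1 (mul_mem ha hx0) _ (by
        rw [mul_comm, mul_sub, sub_eq_zero]; exact hyz))
    · exact hwr
  obtain ⟨h1, h2⟩ := isExact_of_ranks 2 (consSize (pairSize (t + 1) t))
    (consRow (pairSize (t + 1) t) π (pairMat Ψ)) (by omega) r hmul hr hdet
  exact ⟨h1, (ker_rowMatrix π).symm.trans (h2 0 (by omega))⟩

end GrothLib.BEExact
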